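import Mathlib.RingTheory.GradedAlgebra.Radical
import Mathlib.RingTheory.GradedAlgebra.Homogeneous.Ideal

/-!
# Homogeneous prime avoidance
-/

universe u

namespace Groth.Agent.Lib.FlatCI.Avoid

variable {R A : Type u} [CommRing R] [CommRing A] [Algebra R A] (𝒜 : ℕ → Submodule R A) [GradedAlgebra 𝒜]

theorem exists_hom_notMem {J P : Ideal A} (hJ : J.IsHomogeneous 𝒜) (h : ¬ J ≤ P) :
    ∃ d, ∃ c ∈ 𝒜 d, c ∈ J ∧ c ∉ P := by
  classical
  obtain ⟨r, hr, hrP⟩ := Set.not_subset.1 h
  by_contra hc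
  push Not at hc
  refine hrP ?_
  rw [← DirectSum.sum_support_decompose 𝒜 r]
  exact sum_mem fun i _ => hc i _ (SetLike.coe_mem _) (hJ i hr)

/-- A homogeneous ideal, contained in none of finitely many homogeneous primes, none of which
contains all of `𝒜 1`, has a homogeneous element of positive degree outside all of them. -/
theorem exists_avoid {I : Ideal A} (hI : I.IsHomogeneous 𝒜) (s : Finset (Ideal A))
    (hp : ∀ P ∈ s, P.IsPrime) (hhom : ∀ P ∈ s, P.IsHomogeneous 𝒜)
    (h1 : ∀ P ∈ s, ∃ t ∈ 𝒜 1, t ∉ P) (hle : ∀ P ∈ s, ¬ I ≤ P) :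
    ∃ d, 0 < d ∧ ∃ a ∈ 𝒜 d, a ∈ I ∧ ∀ P ∈ s, a ∉ P := by
  classical
  induction s using Finset.strongInduction with
  | _ s ih =>
    rcases s.eq_empty_or_nonempty with rfl | ⟨P, hP⟩
    · exact ⟨1, one_pos, 0, zero_mem _, zero_mem _, by simp⟩
    by_cases hQ : ∃ Q ∈ s, ∃ Q' ∈ s, Q ≠ Q' ∧ Q ≤ Q'
    · obtain ⟨Q, hQs, Q', hQ's, hne, hQQ'⟩ := hQ
      obtain ⟨d, hd, a, ha, haI, hav⟩ := ih (s.erase Q) (Finset.erase_ssubset hQs)
        (fun _ h => hp _ (Finset.mem_of_mem_erase h)) (fun _ h => hhom _ (Finset.mem_of_mem_erase h))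
        (fun _ h => h1 _ (Finset.mem_of_mem_erase h)) (fun _ h => hle _ (Finset.mem_of_mem_erase h))
      refine ⟨d, hd, a, ha, haI, fun J hJ hJa => ?_⟩
      by_cases hJQ : J = Q
      · subst hJQ
        exact hav Q' (Finset.mem_erase.2 ⟨hne.symm, hQ's⟩) (hQQ' hJa)
      · exact hav J (Finset.mem_erase.2 ⟨hJQ, hJ⟩) hJa
    · push Not at hQ
      obtain ⟨d, hd, a, ha, haI, hav⟩ := ih (s.erase P) (Finset.erase_ssubset hP)
        (fun _ h => hp _ (Finset.mem_of_mem_erase h)) (fun _ h => hhom _ (Finset.mem_of_mem_erase h))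
        (fun _ h => h1 _ (Finset.mem_of_mem_erase h)) (fun _ h => hle _ (Finset.mem_of_mem_erase h))
      by_cases haP : a ∈ P
      swap
      · refine ⟨d, hd, a, ha, haI, fun J hJ => ?_⟩
        by_cases hJP : J = P
        · subst hJP; exact haP
        · exact hav J (Finset.mem_erase.2 ⟨hJP, hJ⟩)
      have key : ∀ t : Finset (Ideal A), t ⊆ s.erase P →
          ∃ e, 0 < e ∧ ∃ b ∈ 𝒜 e, b ∈ I ∧ b ∉ P ∧ ∀ J ∈ t, b ∈ J := by
        intro t
        induction t using Finset.induction with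
        | empty =>
          intro _
          obtain ⟨e, c, hc, hcI, hcP⟩ := exists_hom_notMem 𝒜 hI (hle P hP)
          obtain ⟨u, hu, huP⟩ := h1 P hP
          exact ⟨1 + e, by omega, u * c, SetLike.mul_mem_graded hu hc, I.mul_mem_left _ hcI,
            fun h => ((hp P hP).mem_or_mem h).elim huP hcP, by simp⟩
        | @insert J t _ iht =>
          intro ht
          obtain ⟨e, he, b, hb, hbI, hbP, hbt⟩ := iht ((Finset.subset_insert _ _).trans ht)
          have hJ := ht (Finset.mem_insert_self _ _)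
          obtain ⟨e', c, hc, hcJ, hcP⟩ := exists_hom_notMem 𝒜 (hhom J (Finset.mem_of_mem_erase hJ))
            (hQ J (Finset.mem_of_mem_erase hJ) P hP (Finset.mem_erase.1 hJ).1)
          refine ⟨e + e', by omega, b * c, SetLike.mul_mem_graded hb hc, I.mul_mem_right _ hbI,
            fun h => ((hp P hP).mem_or_mem h).elim hbP hcP, fun J' hJ' => ?_⟩
          rcases Finset.mem_insert.1 hJ' with rfl | hJ'
          · exact J'.mul_mem_left _ hcJ
          · exact J'.mul_mem_right _ (hbt J' hJ')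
      obtain ⟨e, he, b, hb, hbI, hbP, hbt⟩ := key _ Finset.Subset.rfl
      refine ⟨d * e, Nat.mul_pos hd he, a ^ e + b ^ d, add_mem ?_ ?_,
        add_mem (I.pow_mem_of_mem haI e he) (I.pow_mem_of_mem hbI d hd), fun J hJ => ?_⟩
      · rw [mul_comm d e]; exact SetLike.pow_mem_graded e ha
      · exact SetLike.pow_mem_graded d hb
      by_cases hJP : J = P
      · subst hJP
        intro h
        exact hbP ((hp J hJ).mem_of_pow_mem _ ((Ideal.add_mem_iff_right J (J.pow_mem_of_mem haP e he)).1 h))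
      · intro h
        have hJe := Finset.mem_erase.2 ⟨hJP, hJ⟩
        exact hav J hJe ((hp J hJ).mem_of_pow_mem _
          ((Ideal.add_mem_iff_left J (J.pow_mem_of_mem (hbt J hJe) d hd)).1 h))

end Groth.Agent.Lib.FlatCI.Avoid
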