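import Groth.Agent.Lib.FlatCI.Sub
import Groth.Agent.Lib.FlatCI.Avoid
import Mathlib.AlgebraicGeometry.Fiber
import Mathlib.RingTheory.Ideal.MinimalPrime.Noetherian

/-!
# Choosing the forms of a flat complete intersection
-/

universe u

open CategoryTheory AlgebraicGeometry MvPolynomial TopologicalSpace
open Groth.Agent.Lib.ProjSpace.Charts Groth.Agent.Lib.ProjSpace.Basic Groth.Agent.Lib.FlatCI.Chart
open Groth.Agent.Lib.FlatCI.Alg IsLocalRing

noncomputable section

namespace Groth.Agent.Lib.FlatCI.Exist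

theorem trdegNat_mvPolynomial (k : Type u) [Field k] (N : ℕ) :
    Lib.Dim.Basic.trdegNat k (MvPolynomial (Fin N) k) = N := by
  have h := Lib.Dim.Basic.ringKrullDim_eq_trdegNat k (MvPolynomial (Fin N) k)
  rw [MvPolynomial.ringKrullDim_of_isNoetherianRing, ringKrullDim_eq_zero_of_field] at h
  simp only [zero_add, Nat.card_fin] at h
  exact_mod_cast h.symm

theorem sub_le_height {k : Type u} [Field k] {N n : ℕ} (Q : Ideal (MvPolynomial (Fin N) k)) [Q.IsPrime]
    (h : ringKrullDim (MvPolynomial (Fin N) k ⧸ Q) ≤ (n : WithBot ℕ∞)) : ((N - n : ℕ) : ℕ∞) ≤ Q.height := by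
  have h1 := Lib.Dim.Basic.height_add_dimQ k Q
  rw [trdegNat_mvPolynomial] at h1
  rw [Lib.Dim.Basic.ringKrullDim_quotient_prime k Q] at h
  have h2 : Lib.Dim.Basic.dimQ k Q ≤ n := by exact_mod_cast h
  obtain ⟨e, he⟩ := ENat.ne_top_iff_exists.1 (Ideal.height_ne_top (I := Q) (Ideal.IsPrime.ne_top inferInstance))
  rw [← he] at h1 ⊢
  have h1' : e + Lib.Dim.Basic.dimQ k Q = N := by exact_mod_cast h1
  exact_mod_cast (show N - n ≤ e by omega)

variable {A : Type u} [CommRing A] [IsLocalRing A] {N : ℕ}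

/-- The charts of the closed fibre of `X` have dimension at most `n`. -/
theorem height_of_mem {X : Scheme.{u}} (i : X ⟶ Proj (CohB1.polyGrading N A)) [IsClosedImmersion i] {n : ℕ}
    (F : Proj (CohB1.polyGrading N A) ⟶ Spec (CommRingCat.of A))
    (hF : ∀ l, chartι A l ≫ F = Spec.map (CommRingCat.ofHom MvPolynomial.C))
    (hdim : topologicalKrullDim ↥((i ≫ F).fiber (closedPoint A)) ≤ (n : WithBot ℕ∞))
    (l : Fin (N + 1)) (Q : Ideal (MvPolynomial (Fin N) (ResidueField A))) [Q.IsPrime]
    (hQ : ∀ d, ∀ a ∈ CohB1.polyGrading N A d, a ∈ Chart.ideal i → red A N (deh A l a) ∈ Q) :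
    ((N - n : ℕ) : ℕ∞) ≤ Q.height := by
  refine sub_le_height Q ?_
  let π : MvPolynomial (Fin N) A →+* MvPolynomial (Fin N) (ResidueField A) ⧸ Q :=
    (Ideal.Quotient.mk Q).comp (red A N)
  have hπ : Function.Surjective π := Ideal.Quotient.mk_surjective.comp (red_surjective A N)
  let g : PrimeSpectrum (MvPolynomial (Fin N) (ResidueField A) ⧸ Q) → Proj (CohB1.polyGrading N A) :=
    fun t => chartι A l (PrimeSpectrum.comap π t)
  have hg : Topology.IsInducing g :=
    (chartι A l).isOpenEmbedding.isInducing.comp (PrimeSpectrum.isClosedEmbedding_comap_of_surjective _ π hπ).isInducing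
  let h : ((i ≫ F).fiber (closedPoint A) : Scheme.{u}) → Proj (CohB1.polyGrading N A) :=
    fun t => i ((i ≫ F).fiberι (closedPoint A) t)
  have hh : Topology.IsInducing h :=
    i.isClosedEmbedding.isInducing.comp ((i ≫ F).fiberι (closedPoint A)).isEmbedding.isInducing
  have hrange : ∀ t, ∃ x, h x = g t := by
    intro t
    have hgi : g t ∈ Set.range i := by
      by_contra hn
      obtain ⟨d, c, hd, hc, hcI, hx⟩ := exists_mem_basicOpen i _ hn
      have h1 : PrimeSpectrum.comap π t ∈ PrimeSpectrum.basicOpen (deh A l c) := by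
        rw [← chartι_preimage_basicOpen l hd hc]; exact hx
      refine h1 (show π (deh A l c) ∈ t.asIdeal from ?_)
      rw [show π (deh A l c) = 0 from Ideal.Quotient.eq_zero_iff_mem.2 (hQ d c hc hcI)]
      exact zero_mem _
    obtain ⟨x, hx⟩ := hgi
    have hFx : (i ≫ F) x = closedPoint A := by
      rw [Scheme.Hom.comp_apply, hx]
      change (chartι A l ≫ F) (PrimeSpectrum.comap π t) = _
      rw [hF]
      refine PrimeSpectrum.ext (le_antisymm (le_maximalIdeal (Ideal.IsPrime.ne_top inferInstance)) fun a ha => ?_)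
      change π (MvPolynomial.C a) ∈ t.asIdeal
      rw [show π (MvPolynomial.C a) = 0 by simp [π, red, MvPolynomial.map_C, residue_eq_zero_iff _ |>.2 ha]]
      exact zero_mem _
    obtain ⟨y, hy⟩ : x ∈ Set.range ((i ≫ F).fiberι (closedPoint A)) := by
      rw [Scheme.Hom.range_fiberι]; exact hFx
    exact ⟨y, (congrArg i hy).trans hx⟩
  choose ψ hψ using hrange
  have hψ' : Topology.IsInducing ψ := by
    rw [← hh.of_comp_iff]
    convert hg using 1
    exact funext hψ
  rw [← PrimeSpectrum.topologicalKrullDim_eq_ringKrullDim]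
  exact hψ'.topologicalKrullDim_le.trans hdim

/-- `r` forms in the ideal of `X` cutting the charts of the closed fibre in codimension `r`. -/
theorem exists_forms [IsNoetherianRing A] (I : Ideal (MvPolynomial (Fin (N + 1)) A))
    (hI : I.IsHomogeneous (CohB1.polyGrading N A)) (r : ℕ)
    (hr : ∀ l (Q : Ideal (MvPolynomial (Fin N) (ResidueField A))), Q.IsPrime →
      (∀ d, ∀ a ∈ CohB1.polyGrading N A d, a ∈ I → red A N (deh A l a) ∈ Q) → (r : ℕ∞) ≤ Q.height) :
    ∀ j ≤ r, ∃ L : List (MvPolynomial (Fin (N + 1)) A), L.length = j ∧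
      (∀ f ∈ L, f ∈ I ∧ ∃ d, f ∈ CohB1.polyGrading N A d) ∧
      ∀ l (Q : Ideal (MvPolynomial (Fin N) (ResidueField A))), Q.IsPrime →
        (∀ f ∈ L, red A N (deh A l f) ∈ Q) → (j : ℕ∞) ≤ Q.height := by
  intro j
  induction j with
  | zero => exact fun _ => ⟨[], rfl, by simp, fun l Q _ _ => by simp⟩
  | succ j ih =>
    intro hj
    obtain ⟨L, hlen, hL, hLQ⟩ := ih (Nat.le_of_succ_le hj)
    classical
    let J : Fin (N + 1) → Ideal (MvPolynomial (Fin N) (ResidueField A)) := fun l =>
      Ideal.ofList (L.map fun f => red A N (deh A l f))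
    have hfin : ∀ l, ((J l).minimalPrimes ∩ {Q | Q.height ≤ (j : ℕ∞)}).Finite := fun l =>
      (J l).finite_minimalPrimes_of_isNoetherianRing.inter_of_left _
    let core : Fin (N + 1) → Ideal (MvPolynomial (Fin N) (ResidueField A)) → Ideal (MvPolynomial (Fin (N + 1)) A) :=
      fun l Q => (Ideal.homogeneousCore (CohB1.polyGrading N A) (Q.comap ((red A N).comp (deh A l)))).toIdeal
    let s : Finset (Ideal (MvPolynomial (Fin (N + 1)) A)) :=
      Finset.univ.biUnion fun l => (hfin l).toFinset.image (core l)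
    have hs : ∀ P ∈ s, ∃ l Q, (Q ∈ (J l).minimalPrimes ∧ Q.height ≤ (j : ℕ∞)) ∧ core l Q = P := by
      intro P hP
      simp only [s, Finset.mem_biUnion, Finset.mem_image, Set.Finite.mem_toFinset] at hP
      obtain ⟨l, -, Q, hQ, rfl⟩ := hP
      exact ⟨l, Q, hQ, rfl⟩
    obtain ⟨d, hd, f, hf, hfI, hfs⟩ := Avoid.exists_avoid (CohB1.polyGrading N A) hI s
      (fun P hP => by
        obtain ⟨l, Q, ⟨hQ, -⟩, rfl⟩ := hs P hP
        haveI := hQ.1.1
        exact Ideal.IsPrime.homogeneousCore inferInstance)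
      (fun P hP => by
        obtain ⟨l, Q, -, rfl⟩ := hs P hP
        exact HomogeneousIdeal.isHomogeneous _)
      (fun P hP => by
        obtain ⟨l, Q, ⟨hQ, -⟩, rfl⟩ := hs P hP
        refine ⟨X l, X_mem_one l, fun h => hQ.1.1.ne_top ?_⟩
        have := Ideal.toIdeal_homogeneousCore_le (CohB1.polyGrading N A) _ h
        rw [Ideal.mem_comap, RingHom.comp_apply, deh_X_self, map_one] at this
        exact (Ideal.eq_top_iff_one _).2 this)
      (fun P hP hle => by
        obtain ⟨l, Q, ⟨hQ, hQj⟩, rfl⟩ := hs P hP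
        haveI := hQ.1.1
        have := hr l Q inferInstance fun d a _ ha => Ideal.toIdeal_homogeneousCore_le (CohB1.polyGrading N A)
          (Q.comap ((red A N).comp (deh A l))) (hle ha)
        have h2 : r ≤ j := by exact_mod_cast this.trans hQj
        omega)
    refine ⟨f :: L, by simp [hlen], fun x hx => ?_, fun l Q hQ hQf => ?_⟩
    · rcases List.mem_cons.1 hx with rfl | hx
      · exact ⟨hfI, d, hf⟩
      · exact hL x hx
    · have hQL : ∀ x ∈ L, red A N (deh A l x) ∈ Q := fun x hx => hQf x (List.mem_cons_of_mem _ hx)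
      have hJQ : J l ≤ Q := Ideal.span_le.2 fun x hx => by
        obtain ⟨y, hy, rfl⟩ := List.mem_map.1 (show x ∈ L.map _ from hx)
        exact hQL y hy
      by_contra hlt
      have hQj : Q.height ≤ (j : ℕ∞) := by
        rw [not_le, Nat.cast_succ, ENat.lt_add_one_iff (ENat.coe_ne_top j)] at hlt
        exact hlt
      haveI := hQ
      have hmin : Q ∈ (J l).minimalPrimes := by
        obtain ⟨Q', hQ', hQ'Q⟩ := Ideal.exists_minimalPrimes_le hJQ
        rcases eq_or_lt_of_le hQ'Q with rfl | hlt'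
        · exact hQ'
        haveI := hQ'.1.1
        have h1 : (j : ℕ∞) ≤ Q'.height := hLQ l Q' inferInstance fun x hx =>
          hQ'.1.2 (Ideal.subset_span (show _ ∈ L.map _ from List.mem_map.2 ⟨x, hx, rfl⟩))
        exact absurd ((Ideal.height_strict_mono_of_isPrime hlt').trans_le hQj) (not_lt.2 h1)
      refine hfs (core l Q) ?_ (Ideal.mem_homogeneousCore_of_homogeneous_of_mem ⟨d, hf⟩ ?_)
      · simp only [s, Finset.mem_biUnion, Finset.mem_image, Set.Finite.mem_toFinset]
        exact ⟨l, Finset.mem_univ _, Q, ⟨hmin, hQj⟩, rfl⟩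
      · exact hQf f List.mem_cons_self

end Groth.Agent.Lib.FlatCI.Exist
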