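import Groth.Agent.S5774
import Groth.Agent.H20.CMRegular
import Groth.Agent.H18.CMPoly
import Groth.Agent.H25.CMUnmixed
import Groth.Agent.Lib.Goren.LCIFibre
import Groth.Agent.Lib.Dim.Basic
import Mathlib.RingTheory.MvPolynomial.Basic
import Mathlib.RingTheory.RingHom.Flat

/-!
# Flatness of relative complete intersections in affine space over a local ring
-/

universe u

open IsLocalRing RingTheory.Sequence LocCoh

noncomputable section

namespace Groth.Agent.Lib.FlatCI.Alg

/-- A bound on the dimension of a quotient from a lower bound on the height of its primes. -/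
theorem ringKrullDim_quotient_le {R : Type u} [CommRing R] (J : Ideal R) (r d : ℕ)
    (hd : ringKrullDim R ≤ (d : WithBot ℕ∞)) (h : ∀ P : Ideal R, P.IsPrime → J ≤ P → (r : ℕ∞) ≤ P.height) :
    ringKrullDim (R ⧸ J) ≤ ((d - r : ℕ) : WithBot ℕ∞) := by
  rw [ringKrullDim_quotient, Order.krullDim]
  refine iSup_le fun l => ?_
  let l' : LTSeries (PrimeSpectrum R) := l.map Subtype.val fun _ _ h => h
  have key : ∀ j : ℕ, ∀ hj : j ≤ l.length,
      ((r + j : ℕ) : ℕ∞) ≤ Order.height (l' ⟨j, Nat.lt_succ_of_le hj⟩) := by
    intro j
    induction j with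
    | zero =>
      intro hj
      have h0 := h (l ⟨0, Nat.succ_pos _⟩).1.asIdeal (l ⟨0, Nat.succ_pos _⟩).1.isPrime (l ⟨0, Nat.succ_pos _⟩).2
      rw [PrimeSpectrum.height_eq_orderHeight (l ⟨0, Nat.succ_pos _⟩).1] at h0
      exact h0
    | succ j ih =>
      intro hj
      have h1 : l' ⟨j, Nat.lt_succ_of_le (Nat.le_of_succ_le hj)⟩ < l' ⟨j + 1, Nat.lt_succ_of_le hj⟩ :=
        l'.strictMono (Nat.lt_succ_self j)
      refine le_trans ?_ (Order.height_add_one_le h1)
      rw [← add_assoc, Nat.cast_add, Nat.cast_one]
      exact add_le_add (ih (Nat.le_of_succ_le hj)) le_rfl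
  have h2 : ((r + l.length : ℕ) : WithBot ℕ∞) ≤ (d : WithBot ℕ∞) := by
    refine le_trans ?_ hd
    rw [ringKrullDim]
    refine le_trans ?_ (Order.height_le_krullDim (l' ⟨l.length, Nat.lt_succ_self _⟩))
    exact WithBot.coe_le_coe.2 (key l.length le_rfl)
  have h3 : r + l.length ≤ d := by exact_mod_cast h2
  exact_mod_cast (show l.length ≤ d - r by omega)

variable (A : Type u) [CommRing A] [IsLocalRing A] (N : ℕ)

/-- Reduction to the closed fibre. -/
abbrev red : MvPolynomial (Fin N) A →+* MvPolynomial (Fin N) (ResidueField A) :=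
  MvPolynomial.map (residue A)

theorem red_surjective : Function.Surjective (red A N) :=
  MvPolynomial.map_surjective _ IsLocalRing.residue_surjective

theorem ker_red : RingHom.ker (red A N) = (maximalIdeal A).map MvPolynomial.C := by
  rw [MvPolynomial.ker_map, IsLocalRing.ker_residue]

variable {A N}

theorem flat_atPrime [IsNoetherianRing A] (L : List (MvPolynomial (Fin N) A))
    (hht : ∀ Q : Ideal (MvPolynomial (Fin N) (ResidueField A)), Q.IsPrime →
      (∀ f ∈ L, red A N f ∈ Q) → (L.length : ℕ∞) ≤ Q.height)
    (P : Ideal (MvPolynomial (Fin N) A ⧸ Ideal.ofList L)) [P.IsPrime]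
    (hP : P.comap (algebraMap A (MvPolynomial (Fin N) A ⧸ Ideal.ofList L)) = maximalIdeal A) :
    Module.Flat A (Localization.AtPrime P) := by
  set q := P.comap (Ideal.Quotient.mk (Ideal.ofList L)) with hq
  have hqA : q.comap (algebraMap A (MvPolynomial (Fin N) A)) = maximalIdeal A := by
    rw [hq, Ideal.comap_comap]; exact hP
  have hker : RingHom.ker (red A N) ≤ q := by
    rw [ker_red, Ideal.map_le_iff_le_comap]
    exact hqA.ge
  set Q := q.map (red A N) with hQdef
  haveI hQp : Q.IsPrime := Ideal.map_isPrime_of_surjective (red_surjective A N) hker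
  have hqQ : q = Q.comap (red A N) := by
    rw [hQdef, Ideal.comap_map_of_surjective _ (red_surjective A N), ← RingHom.ker_eq_comap_bot,
      sup_eq_left.2 hker]
  have hLq : ∀ f ∈ L, f ∈ q := fun f hf => by
    rw [hq, Ideal.mem_comap, Ideal.Quotient.eq_zero_iff_mem.2
      (show f ∈ Ideal.ofList L from Ideal.subset_span (show f ∈ {r | r ∈ L} from hf))]
    exact zero_mem _
  haveI : IsNoetherianRing (Localization.AtPrime q) :=
    IsLocalization.isNoetherianRing q.primeCompl _ inferInstance
  haveI : Module.Flat (MvPolynomial (Fin N) A) (Localization.AtPrime q) :=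
    IsLocalization.flat (Localization.AtPrime q) q.primeCompl
  haveI : Module.Flat A (Localization.AtPrime q) := Module.Flat.trans A (MvPolynomial (Fin N) A) _
  haveI : IsLocalHom (algebraMap A (Localization.AtPrime q)) := ⟨fun a ha => by
    by_contra hna
    have : a ∈ q.comap (algebraMap A (MvPolynomial (Fin N) A)) := hqA ▸ hna
    have h2 : algebraMap A (Localization.AtPrime q) a ∈ maximalIdeal (Localization.AtPrime q) := by
      rw [IsScalarTower.algebraMap_apply A (MvPolynomial (Fin N) A) (Localization.AtPrime q),
        IsLocalization.AtPrime.to_map_mem_maximal_iff (Localization.AtPrime q) q]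
      exact this
    exact h2 ha⟩
  -- the fibre ring is the local ring of affine space over the residue field
  let φ : Localization.AtPrime q →+* Localization.AtPrime Q := Localization.localRingHom q Q (red A N) hqQ
  have hφ : Function.Surjective φ ∧ RingHom.ker φ = (maximalIdeal A).map (algebraMap A (Localization.AtPrime q)) := by
    have h := Goren.LCIFibre.localRingHom_surjective_ker (red A N) (red_surjective A N) Q
    have : ∀ (J : Ideal (MvPolynomial (Fin N) A)) [J.IsPrime] (hJ : J = Q.comap (red A N)),
        Function.Surjective (Localization.localRingHom J Q (red A N) hJ) ∧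
          RingHom.ker (Localization.localRingHom J Q (red A N) hJ) =
            (RingHom.ker (red A N)).map (algebraMap _ (Localization.AtPrime J)) := by
      intro J _ hJ
      subst hJ
      exact h
    refine ⟨(this q hqQ).1, (this q hqQ).2.trans ?_⟩
    rw [ker_red, Ideal.map_map]
    rfl
  haveI : IsCohenMacaulayLocalRing (Localization.AtPrime Q) := by
    haveI : LocCoh.IsCohenMacaulayRing (ResidueField A) := H25.CMUnmixed.isCohenMacaulayRing_of_regular _
    haveI := H18.CMPoly.mvPolynomial (ResidueField A) N
    exact IsCohenMacaulayRing.isCohenMacaulayLocalRing_localization Q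
  set fs := L.map (algebraMap (MvPolynomial (Fin N) A) (Localization.AtPrime q)) with hfs
  have hgs : IsWeaklyRegular (Localization.AtPrime Q) (fs.map φ) := by
    refine (H20.CMRegular.isRegular_of_ringKrullDim_le (fs.map φ) ?_ ?_).toIsWeaklyRegular
    · intro x hx
      obtain ⟨f, hf, rfl⟩ : ∃ f ∈ L, φ (algebraMap _ _ f) = x := by simpa [hfs] using hx
      rw [Localization.localRingHom_to_map, IsLocalization.AtPrime.to_map_mem_maximal_iff _ Q]
      have := hLq f hf
      rwa [hqQ] at this
    · obtain ⟨d, hd⟩ := Groth.Agent.Lib.Depth.CM.supportDim_eq_nat (R := Localization.AtPrime Q) (Localization.AtPrime Q)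
      rw [Module.supportDim_self_eq_ringKrullDim] at hd
      have hh : ∀ P' : Ideal (Localization.AtPrime Q), P'.IsPrime → Ideal.ofList (fs.map φ) ≤ P' →
          (L.length : ℕ∞) ≤ P'.height := by
        intro P' hP' hle
        rw [← IsLocalization.height_under Q.primeCompl P']
        refine hht _ inferInstance fun f hf => ?_
        rw [Ideal.mem_comap]
        refine hle (Ideal.subset_span ?_)
        show _ ∈ fs.map φ
        simp only [hfs, List.map_map, List.mem_map, Function.comp_apply]
        exact ⟨f, hf, Localization.localRingHom_to_map _ _ _ _ f⟩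
      have hb := ringKrullDim_quotient_le _ L.length d hd.le hh
      have hlen : (fs.map φ).length = L.length := by simp [hfs]
      rw [hlen]
      refine (add_le_add hb le_rfl).trans ?_
      rw [hd]
      have hQ : (L.length : ℕ∞) ≤ Q.height := hht Q hQp fun f hf => by
        have := hLq f hf
        rwa [hqQ] at this
      have hQd : Q.height = d := by
        rw [IsLocalization.AtPrime.ringKrullDim_eq_height Q (Localization.AtPrime Q)] at hd
        exact_mod_cast hd
      rw [hQd] at hQ
      have : L.length ≤ d := by exact_mod_cast hQ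
      rw [← Nat.cast_add, Nat.sub_add_cancel this]; exact le_rfl
  let e : (Localization.AtPrime q ⧸ ((maximalIdeal A).map (algebraMap A (Localization.AtPrime q)) •
      (⊤ : Submodule (Localization.AtPrime q) (Localization.AtPrime q)))) ≃+ Localization.AtPrime Q :=
    (Submodule.quotEquivOfEq _ (RingHom.ker φ) (by rw [hφ.2]; simp)).toAddEquiv.trans
      (RingHom.quotientKerEquivOfSurjective hφ.1).toAddEquiv
  have hreg : IsWeaklyRegular (Localization.AtPrime q ⧸ ((maximalIdeal A).map
      (algebraMap A (Localization.AtPrime q)) • (⊤ : Submodule (Localization.AtPrime q) (Localization.AtPrime q)))) fs := by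
    refine (e.isWeaklyRegular_congr (List.forall₂_map_right_iff.2 (List.forall₂_same.2 fun x _ z => ?_))).2 hgs
    obtain ⟨z, rfl⟩ := Submodule.Quotient.mk_surjective _ z
    exact map_mul φ x z
  have hflat := (S5774.result A (Localization.AtPrime q) (Localization.AtPrime q) fs hreg).2 fs.length le_rfl
  rw [List.take_length] at hflat
  let ψ : Localization.AtPrime q →+* Localization.AtPrime P :=
    Localization.localRingHom q P (Ideal.Quotient.mk (Ideal.ofList L)) hq
  have hψ := Goren.LCIFibre.localRingHom_surjective_ker (Ideal.Quotient.mk (Ideal.ofList L))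
    Ideal.Quotient.mk_surjective P
  have hψk : RingHom.ker ψ = Ideal.ofList fs := by
    refine hψ.2.trans ?_
    rw [Ideal.mk_ker, Ideal.map_ofList]
  have hψc : ∀ a : A, ψ (algebraMap A (Localization.AtPrime q) a) = algebraMap A (Localization.AtPrime P) a :=
    fun a => by
      rw [IsScalarTower.algebraMap_apply A (MvPolynomial (Fin N) A) (Localization.AtPrime q),
        Localization.localRingHom_to_map,
        IsScalarTower.algebraMap_apply A (MvPolynomial (Fin N) A ⧸ Ideal.ofList L) (Localization.AtPrime P)]
      rfl
  let ψA : Localization.AtPrime q →ₐ[A] Localization.AtPrime P := AlgHom.mk ψ hψc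
  let e2 : (Localization.AtPrime q ⧸ (Ideal.ofList fs • (⊤ : Submodule (Localization.AtPrime q) (Localization.AtPrime q))))
      ≃ₗ[A] Localization.AtPrime P :=
    ((Submodule.quotEquivOfEq _ (RingHom.ker ψA) (by rw [show RingHom.ker ψA = RingHom.ker ψ from rfl, hψk]; simp)).restrictScalars A).trans
      (Ideal.quotientKerAlgEquivOfSurjective (f := ψA) hψ.1).toLinearEquiv
  exact Module.Flat.of_linearEquiv e2.symm

end Groth.Agent.Lib.FlatCI.Alg

namespace Groth.Agent.Lib.FlatCI.Alg

/-- Flatness of a localization at a generalization. -/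
theorem flat_localRingHom_of_le {A B : Type u} [CommRing A] [CommRing B] [Algebra A B] {Pw Pz : Ideal B}
    [Pw.IsPrime] [Pz.IsPrime] (h : Pw ≤ Pz) [Module.Flat A (Localization.AtPrime Pz)] :
    (Localization.localRingHom (Pw.comap (algebraMap A B)) Pw (algebraMap A B) rfl).Flat := by
  have hle : Pz.primeCompl ≤ Pw.primeCompl := fun x hx hxw => hx (h hxw)
  letI : Algebra (Localization.AtPrime Pz) (Localization.AtPrime Pw) :=
    IsLocalization.localizationAlgebraOfSubmonoidLe (Localization.AtPrime Pz) (Localization.AtPrime Pw)
      Pz.primeCompl Pw.primeCompl hle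
  haveI : IsScalarTower B (Localization.AtPrime Pz) (Localization.AtPrime Pw) :=
    IsLocalization.localization_isScalarTower_of_submonoid_le _ _ Pz.primeCompl Pw.primeCompl hle
  haveI : IsScalarTower A (Localization.AtPrime Pz) (Localization.AtPrime Pw) :=
    IsScalarTower.of_algebraMap_eq fun a => by
      rw [IsScalarTower.algebraMap_apply A B (Localization.AtPrime Pw),
        IsScalarTower.algebraMap_apply A B (Localization.AtPrime Pz),
        ← IsScalarTower.algebraMap_apply B (Localization.AtPrime Pz) (Localization.AtPrime Pw)]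
  haveI := IsLocalization.isLocalization_of_submonoid_le (Localization.AtPrime Pz) (Localization.AtPrime Pw)
    Pz.primeCompl Pw.primeCompl hle
  haveI : Module.Flat (Localization.AtPrime Pz) (Localization.AtPrime Pw) :=
    IsLocalization.flat (Localization.AtPrime Pw) (Pw.primeCompl.map (algebraMap B (Localization.AtPrime Pz)))
  haveI : Module.Flat A (Localization.AtPrime Pw) :=
    Module.Flat.trans A (Localization.AtPrime Pz) (Localization.AtPrime Pw)
  algebraize [Localization.localRingHom (Pw.comap (algebraMap A B)) Pw (algebraMap A B) rfl]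
  have : IsScalarTower A (Localization.AtPrime (Pw.comap (algebraMap A B))) (Localization.AtPrime Pw) :=
    .of_algebraMap_eq fun x => by
      change _ = Localization.localRingHom _ Pw (algebraMap A B) rfl _
      rw [Localization.localRingHom_to_map]
      rfl
  rw [RingHom.Flat, Module.flat_iff_of_isLocalization
    (S := Localization.AtPrime (Pw.comap (algebraMap A B))) (p := (Pw.comap (algebraMap A B)).primeCompl)]
  infer_instance

end Groth.Agent.Lib.FlatCI.Alg
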