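import Groth.Agent.Lib.ProjSub.Closed
import Groth.Agent.Lib.ProjSpace.BaseChange
import Groth.Agent.Lib.ProjTilde.QCoh
import Groth.Agent.Lib.ProjSpace.Basic
import Mathlib.AlgebraicGeometry.Morphisms.ClosedImmersion
import Mathlib.AlgebraicGeometry.Morphisms.Finite

/-!
# Dehomogenization on the charts of projective space and closed subschemes
-/

universe u

open CategoryTheory AlgebraicGeometry MvPolynomial TopologicalSpace HomogeneousLocalization
open Groth.Agent.Lib.ProjSpace.Charts Groth.Agent.Lib.ProjSpace.Basic Groth.Agent.Lib.ProjSub.Closed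

noncomputable section

namespace Groth.Agent.Lib.FlatCI.Chart

variable {N : ℕ} {R : Type u} [CommRing R]

/-- `T_i = 1`. -/
def deh (R : Type u) [CommRing R] (i : Fin (N + 1)) :
    MvPolynomial (Fin (N + 1)) R →+* MvPolynomial (Fin N) R :=
  eval₂Hom C (Fin.insertNth (α := fun _ => MvPolynomial (Fin N) R) i 1 X)

@[simp] theorem deh_X_self (i : Fin (N + 1)) : deh R i (X i) = 1 := by simp [deh]

@[simp] theorem deh_X_succAbove (i : Fin (N + 1)) (k : Fin N) : deh R i (X (i.succAbove k)) = X k := by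
  simp [deh]

@[simp] theorem deh_C (i : Fin (N + 1)) (r : R) : deh R i (C r) = C r := by simp [deh]

theorem chartEquiv_deh' (i : Fin (N + 1)) (a : MvPolynomial (Fin (N + 1)) R) :
    chartEquiv R i (deh R i a) = fromPoly R i (dehom R i a) := by
  have : (chartEquiv R i).toRingHom.comp (deh R i) = (fromPoly R i).comp (dehom R i) := by
    apply MvPolynomial.ringHom_ext
    · intro r
      simp [dehom, fromPoly]
    · intro j
      rcases Fin.eq_self_or_eq_succAbove i j with rfl | ⟨k, rfl⟩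
      · simp [dehom]
      · simp [dehom_X_of_ne (Fin.succAbove_ne i k), fromPoly_X]
  exact DFunLike.congr_fun this a

theorem mk_eq_chartEquiv_deh (i : Fin (N + 1)) (d : ℕ) (a : MvPolynomial (Fin (N + 1)) R)
    (ha : a ∈ CohB1.polyGrading N R (d • 1)) :
    Away.mk (CohB1.polyGrading N R) (X_mem_one i) d a ha = chartEquiv R i (deh R i a) := by
  rw [chartEquiv_deh']
  apply HomogeneousLocalization.val_injective
  rw [Away.val_mk, Localization.mk_eq_mk', eq_comm, IsLocalization.eq_mk'_iff_mul_eq, mul_comm]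
  simpa using fromPoly_dehom_of_isHomogeneous i (m := d)
    ((mem_homogeneousSubmodule d a).1 (by simpa using ha))

theorem deh_surjective_hom (i : Fin (N + 1)) (p : MvPolynomial (Fin N) R) :
    ∃ (d : ℕ) (a : MvPolynomial (Fin (N + 1)) R) (ha : a ∈ CohB1.polyGrading N R (d • 1)),
      deh R i a = p ∧ Away.mk (CohB1.polyGrading N R) (X_mem_one i) d a ha = chartEquiv R i p := by
  obtain ⟨d, a, ha, h⟩ := Away.mk_surjective (CohB1.polyGrading N R) (X_mem_one i) (chartEquiv R i p)
  refine ⟨d, a, ha, (chartEquiv R i).injective ?_, h⟩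
  rw [← mk_eq_chartEquiv_deh i d a ha, h]

theorem chartι_preimage_basicOpen (i : Fin (N + 1)) {d : ℕ} (hd : 0 < d) {a : MvPolynomial (Fin (N + 1)) R}
    (ha : a ∈ CohB1.polyGrading N R d) :
    chartι R i ⁻¹ᵁ Proj.basicOpen (CohB1.polyGrading N R) a = PrimeSpectrum.basicOpen (deh R i a) := by
  rw [chartι, Scheme.Hom.comp_preimage]
  refine (congrArg (fun U => Spec.map (CommRingCat.ofHom (chartEquiv R i).symm.toRingHom) ⁻¹ᵁ U)
    (Proj.awayι_preimage_basicOpen (CohB1.polyGrading N R) (X_mem_one i) one_pos ha hd)).trans ?_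
  change PrimeSpectrum.basicOpen _ = _
  congr 1
  change (chartEquiv R i).symm _ = _
  rw [RingEquiv.symm_apply_eq, Away.isLocalizationElem, mk_eq_chartEquiv_deh]
  simp

/-- The coordinates. -/
def coords (N : ℕ) (R : Type u) [CommRing R] : Finset (MvPolynomial (Fin (N + 1)) R) :=
  (Set.finite_range (X : Fin (N + 1) → MvPolynomial (Fin (N + 1)) R)).toFinset

theorem mem_coords (i : Fin (N + 1)) : X i ∈ coords N R := by simp [coords]

theorem coords_one : ∀ f ∈ coords N R, f ∈ CohB1.polyGrading N R 1 := fun f hf => by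
  obtain ⟨i, rfl⟩ := (Set.Finite.mem_toFinset _).1 hf
  exact X_mem_one i

variable {Z : Scheme.{u}} (i : Z ⟶ Proj (CohB1.polyGrading N R))

/-- The homogeneous ideal of `Z`. -/
def ideal : Ideal (MvPolynomial (Fin (N + 1)) R) := idealOf (𝒜 := CohB1.polyGrading N R) i (coords N R) coords_one

theorem ideal_isHomogeneous : (ideal i).IsHomogeneous (CohB1.polyGrading N R) := isHomogeneous_idealOf _

theorem basicOpen_ev {f : MvPolynomial (Fin (N + 1)) R} (hf : f ∈ CohB1.polyGrading N R 1) (d : ℕ)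
    (a : MvPolynomial (Fin (N + 1)) R) (ha : a ∈ CohB1.polyGrading N R (d • 1)) :
    Z.basicOpen (ev (𝒜 := CohB1.polyGrading N R) i f (Away.mk (CohB1.polyGrading N R) hf d a ha)) =
      i ⁻¹ᵁ Proj.basicOpen (CohB1.polyGrading N R) (f * a) := by
  rw [← ProjTilde.QCoh.basicOpen_awayToSection hf d a ha]
  exact (Scheme.preimage_basicOpen i _).symm

/-- The forms of the ideal vanish on `Z`. -/
theorem notMem_basicOpen {d : ℕ} {c : MvPolynomial (Fin (N + 1)) R} (hc : c ∈ CohB1.polyGrading N R d)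
    (hcI : c ∈ ideal i) (z : Z) : i z ∉ Proj.basicOpen (CohB1.polyGrading N R) c := by
  intro h
  obtain ⟨l, hl⟩ := Opens.mem_iSup.mp ((iSup_basicOpen_X_eq_top N R).ge (Opens.mem_top (i z)))
  have ha : c ∈ CohB1.polyGrading N R (d • 1) := by simpa using hc
  have h0 := van_of_mem (𝒜 := CohB1.polyGrading N R) i hcI hc (X l) (mem_coords l) ha
  have hb := basicOpen_ev i (X_mem_one l) d c ha
  rw [h0, Scheme.basicOpen_zero] at hb
  have : z ∈ i ⁻¹ᵁ Proj.basicOpen (CohB1.polyGrading N R) (X l * c) := by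
    rw [Proj.basicOpen_mul]; exact ⟨hl, h⟩
  rw [← hb] at this
  exact this

/-- Outside `Z` some form of the ideal is invertible. -/
theorem exists_mem_basicOpen [IsClosedImmersion i] (x : Proj (CohB1.polyGrading N R)) (hx : x ∉ Set.range i) :
    ∃ (d : ℕ) (c : MvPolynomial (Fin (N + 1)) R), 0 < d ∧ c ∈ CohB1.polyGrading N R d ∧ c ∈ ideal i ∧
      x ∈ Proj.basicOpen (CohB1.polyGrading N R) c := by
  classical
  obtain ⟨_, ⟨_, ⟨c₀, rfl⟩, rfl⟩, hxc₀, hsub⟩ := (Proj.isBasis_basicOpen (CohB1.polyGrading N R)).exists_subset_of_mem_open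
    (show x ∈ (Set.range i)ᶜ from hx) i.isClosedEmbedding.isClosed_range.isOpen_compl
  rw [Proj.basicOpen_eq_iSup_proj] at hxc₀
  obtain ⟨e, hxe⟩ := Opens.mem_iSup.mp hxc₀
  obtain ⟨l, hl⟩ := Opens.mem_iSup.mp ((iSup_basicOpen_X_eq_top N R).ge (Opens.mem_top x))
  set c := X l * GradedRing.proj (CohB1.polyGrading N R) e c₀ with hcdef
  have hc : c ∈ CohB1.polyGrading N R (1 + e) :=
    SetLike.mul_mem_graded (X_mem_one l) (SetLike.coe_mem _)
  have hxc : x ∈ Proj.basicOpen (CohB1.polyGrading N R) c := by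
    rw [hcdef, Proj.basicOpen_mul]; exact ⟨hl, hxe⟩
  have hempty : ∀ z : Z, i z ∉ Proj.basicOpen (CohB1.polyGrading N R) c := fun z hz => by
    have h1 : i z ∈ Proj.basicOpen (CohB1.polyGrading N R) c₀ := by
      rw [Proj.basicOpen_eq_iSup_proj]
      exact Opens.mem_iSup.mpr ⟨e, by rw [hcdef, Proj.basicOpen_mul] at hz; exact hz.2⟩
    exact hsub h1 ⟨z, rfl⟩
  have ha : c ∈ CohB1.polyGrading N R ((1 + e) • 1) := by simpa using hc
  have hnil : ∀ f : coords N R, IsNilpotent
      (ev (𝒜 := CohB1.polyGrading N R) i f (Away.mk (CohB1.polyGrading N R) (coords_one _ f.2) (1 + e) c ha)) := by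
    intro f
    rw [Scheme.isNilpotent_iff_basicOpen_eq_bot_of_isCompact
      (((Proj.isAffineOpen_basicOpen (CohB1.polyGrading N R) _ (coords_one _ f.2) one_pos).preimage i).isCompact),
      basicOpen_ev, eq_bot_iff]
    intro z hz
    rw [Proj.basicOpen_mul] at hz
    exact (hempty z hz.2).elim
  choose M hM using hnil
  let M' := Finset.univ.sup M + 1
  refine ⟨(1 + e) * M', c ^ M', by positivity, ?_, ?_, ?_⟩
  · rw [mul_comm]; exact SetLike.pow_mem_graded M' hc
  · refine mem_idealOf (𝒜 := CohB1.polyGrading N R) i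
      (by rw [mul_comm] ; exact SetLike.pow_mem_graded M' hc : c ^ M' ∈ CohB1.polyGrading N R ((1 + e) * M'))
      fun f hf hm => ?_
    have e' : Away.mk (CohB1.polyGrading N R) (coords_one f hf) ((1 + e) * M') (c ^ M') hm =
        Away.mk (CohB1.polyGrading N R) (coords_one f hf) (1 + e) c ha ^ M' := by
      apply HomogeneousLocalization.val_injective
      rw [HomogeneousLocalization.val_pow, Away.val_mk, Away.val_mk, Localization.mk_pow]
      exact congrArg (Localization.mk _) (Subtype.ext (by simp [pow_mul]))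
    rw [e', map_pow]
    exact pow_eq_zero_of_le ((Finset.le_sup (f := M) (Finset.mem_univ ⟨f, hf⟩)).trans (Nat.le_succ _)) (hM ⟨f, hf⟩)
  · rw [Proj.basicOpen_pow _ _ _ (Nat.succ_pos _)]; exact hxc

end Groth.Agent.Lib.FlatCI.Chart
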