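import Groth.Agent.Lib.FlatCI.Chart
import Groth.Agent.Lib.FlatCI.Alg

/-!
# Complete intersections in projective space: charts, lifts, flatness
-/

universe u

open CategoryTheory AlgebraicGeometry MvPolynomial TopologicalSpace HomogeneousLocalization
open Groth.Agent.Lib.ProjSpace.Charts Groth.Agent.Lib.ProjSpace.Basic Groth.Agent.Lib.ProjSub
open Groth.Agent.Lib.FlatCI.Chart

noncomputable section

namespace Groth.Agent.Lib.FlatCI.Sub

variable {N : ℕ} {R : Type u} [CommRing R]

/-- The chart equations. -/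
abbrev eqs (L : List (MvPolynomial (Fin (N + 1)) R)) (i : Fin (N + 1)) : List (MvPolynomial (Fin N) R) :=
  L.map (deh R i)

theorem isHomogeneous_ofList (L : List (MvPolynomial (Fin (N + 1)) R))
    (hL : ∀ f ∈ L, ∃ d, f ∈ CohB1.polyGrading N R d) :
    (Ideal.ofList L).IsHomogeneous (CohB1.polyGrading N R) :=
  Ideal.homogeneous_span _ _ fun f hf => hL f hf

/-- A closed subscheme of `P^N` cut out by forms, with its standard charts and universal property. -/
theorem exists_sub (L : List (MvPolynomial (Fin (N + 1)) R))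
    (hL : ∀ f ∈ L, ∃ d, f ∈ CohB1.polyGrading N R d) :
    ∃ (W : Scheme.{u}) (j : W ⟶ Proj (CohB1.polyGrading N R))
      (c : ∀ i : Fin (N + 1), Spec (CommRingCat.of (MvPolynomial (Fin N) R ⧸ Ideal.ofList (eqs L i))) ⟶ W),
      IsClosedImmersion j ∧ (∀ i, IsOpenImmersion (c i)) ∧
      (∀ i, c i ≫ j = Spec.map (CommRingCat.ofHom (Ideal.Quotient.mk (Ideal.ofList (eqs L i)))) ≫ chartι R i) ∧
      (∀ w : W, ∃ i, w ∈ Set.range (c i)) ∧
      ∀ (Z : Scheme.{u}) (z : Z ⟶ Proj (CohB1.polyGrading N R)) [IsClosedImmersion z],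
        (∀ f ∈ L, f ∈ Chart.ideal z) → ∃ g : Z ⟶ W, g ≫ j = z := by
  classical
  have hJ := isHomogeneous_ofList L hL
  letI := Quot.gradedAlgebra (CohB1.polyGrading N R) hJ
  let ℬ := Quot.quotDeg (CohB1.polyGrading N R) (Ideal.ofList L)
  let φ : (CohB1.polyGrading N R) →+*ᵍ ℬ := Quot.quotHom (CohB1.polyGrading N R) hJ
  have hsurj : Function.Surjective φ := Ideal.Quotient.mk_surjective
  have hφ : HomogeneousIdeal.irrelevant ℬ ≤ (HomogeneousIdeal.irrelevant (CohB1.polyGrading N R)).map φ := by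
    change (HomogeneousIdeal.irrelevant ℬ).toIdeal ≤ _
    rw [HomogeneousIdeal.toIdeal_irrelevant_le]
    intro n hn b hb
    obtain ⟨a, ha, rfl⟩ := hb
    exact Ideal.mem_map_of_mem _ (HomogeneousIdeal.mem_irrelevant_of_mem _ hn ha)
  have hcl := Closed.isClosedImmersion_map φ hsurj hφ
  -- the chart rings
  let θ : ∀ i : Fin (N + 1), MvPolynomial (Fin N) R →+* Away ℬ (φ (X i)) := fun i =>
    (Away.map φ (X i)).comp (chartEquiv R i).toRingHom
  have hθs : ∀ i, Function.Surjective (θ i) := fun i =>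
    (Closed.awayMap_surjective φ hsurj (X_mem_one i)).comp (chartEquiv R i).surjective
  have hzero : ∀ (i : Fin (N + 1)) (d : ℕ) (a : MvPolynomial (Fin (N + 1)) R)
      (ha : a ∈ CohB1.polyGrading N R (d • 1)),
      Away.map φ (X i) (Away.mk (CohB1.polyGrading N R) (X_mem_one i) d a ha) = 0 ↔
        ∃ M : ℕ, X i ^ M * a ∈ Ideal.ofList L := by
    intro i d a ha
    rw [← (HomogeneousLocalization.val_injective _).eq_iff, HomogeneousLocalization.val_zero, Away.map_mk,
      Away.val_mk, ← Localization.mk_zero (1 : Submonoid.powers (φ (X i))), Localization.mk_eq_mk_iff,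
      Localization.r_iff_exists]
    constructor
    · rintro ⟨⟨_, M, rfl⟩, hM⟩
      simp only [OneMemClass.coe_one, one_mul, mul_zero] at hM
      change φ (X i) ^ M * φ a = 0 at hM
      rw [← map_pow, ← map_mul] at hM
      exact ⟨M, Ideal.Quotient.eq_zero_iff_mem.1 hM⟩
    · rintro ⟨M, hM⟩
      refine ⟨⟨φ (X i) ^ M, M, rfl⟩, ?_⟩
      simp only [OneMemClass.coe_one, one_mul, mul_zero]
      change φ (X i) ^ M * φ a = 0
      rw [← map_pow, ← map_mul]
      exact Ideal.Quotient.eq_zero_iff_mem.2 hM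
  have hθk : ∀ i, RingHom.ker (θ i) = Ideal.ofList (eqs L i) := by
    intro i
    refine le_antisymm (fun p hp => ?_) (Ideal.span_le.2 fun p hp => ?_)
    · obtain ⟨d, a, ha, hap, hmk⟩ := deh_surjective_hom i p
      have h0 : θ i p = 0 := hp
      simp only [θ, RingHom.comp_apply] at h0
      change Away.map φ (X i) (chartEquiv R i p) = 0 at h0
      rw [← hmk, hzero] at h0
      obtain ⟨M, hM⟩ := h0
      have := Ideal.mem_map_of_mem (deh R i) hM
      rw [Ideal.map_ofList, map_mul, map_pow, deh_X_self, one_pow, one_mul, hap] at this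
      exact this
    · obtain ⟨f, hf, rfl⟩ := List.mem_map.1 hp
      obtain ⟨d, hd⟩ := hL f hf
      have ha : f ∈ CohB1.polyGrading N R (d • 1) := by simpa using hd
      change Away.map φ (X i) (chartEquiv R i (deh R i f)) = 0
      rw [← mk_eq_chartEquiv_deh i d f ha, hzero]
      exact ⟨0, by simpa using (Ideal.subset_span (show f ∈ {r | r ∈ L} from hf) : f ∈ Ideal.ofList L)⟩
  let e : ∀ i, (MvPolynomial (Fin N) R ⧸ Ideal.ofList (eqs L i)) ≃+* Away ℬ (φ (X i)) := fun i =>
    (Ideal.quotEquivOfEq (hθk i).symm).trans (RingHom.quotientKerEquivOfSurjective (hθs i))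
  let c : ∀ i, Spec (CommRingCat.of (MvPolynomial (Fin N) R ⧸ Ideal.ofList (eqs L i))) ⟶ Proj ℬ := fun i =>
    Spec.map (CommRingCat.ofHom (e i).symm.toRingHom) ≫
      Proj.awayι ℬ (φ (X i)) (φ.map_mem (X_mem_one i)) one_pos
  have hiso : ∀ i, IsIso (Spec.map (CommRingCat.ofHom (e i).symm.toRingHom)) := fun i => by
    haveI : IsIso (CommRingCat.ofHom (e i).symm.toRingHom) := (e i).symm.toCommRingCatIso.isIso_hom
    infer_instance
  refine ⟨Proj ℬ, Proj.map φ hφ, c, hcl, fun i => ?_, fun i => ?_, fun w => ?_, fun Z z _ hz => ?_⟩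
  · haveI := hiso i
    exact IsOpenImmersion.comp _ _
  · simp only [c, Category.assoc]
    rw [Proj.awayι_comp_map φ hφ one_pos (X i) (X_mem_one i), chartι, ← Category.assoc, ← Category.assoc,
      ← Spec.map_comp, ← Spec.map_comp]
    congr 1
    congr 1
    ext x
    obtain ⟨p, rfl⟩ := (chartEquiv R i).surjective x
    change (e i).symm (Away.map φ (X i) (chartEquiv R i p)) =
      Ideal.Quotient.mk _ ((chartEquiv R i).symm (chartEquiv R i p))
    rw [RingEquiv.symm_apply_apply, RingEquiv.symm_apply_eq]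
    rfl
  · obtain ⟨i, hi⟩ := Opens.mem_iSup.mp
      ((iSup_basicOpen_X_eq_top N R).ge (Opens.mem_top ((Proj.map φ hφ) w)))
    refine ⟨i, ?_⟩
    haveI := hiso i
    have : w ∈ (c i).opensRange := by
      rw [show (c i).opensRange = _ from
        (Scheme.Hom.opensRange_comp_of_isIso _ _).trans (Proj.opensRange_awayι _ _ _ _),
        ← Proj.map_preimage_basicOpen φ hφ]
      exact hi
    exact this
  · refine ⟨IsClosedImmersion.lift (Proj.map φ hφ) z ?_, IsClosedImmersion.lift_fac _ _ _⟩
    refine Scheme.IdealSheafData.le_of_iSup_eq_top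
      (fun i : Fin (N + 1) => ⟨Proj.basicOpen (CohB1.polyGrading N R) (X i),
        Proj.isAffineOpen_basicOpen (CohB1.polyGrading N R) _ (X_mem_one i) one_pos⟩)
      (iSup_basicOpen_X_eq_top N R) fun i => ?_
    rw [Scheme.Hom.ker_apply, Scheme.Hom.ker_apply]
    have hisoA : IsIso (Proj.awayToSection (CohB1.polyGrading N R) (X i)) :=
      (Proj.basicOpenIsoAway (CohB1.polyGrading N R) (X i) (X_mem_one i) one_pos).isIso_hom
    have hisoB : IsIso (Proj.awayToSection ℬ (φ (X i))) :=
      (Proj.basicOpenIsoAway ℬ (φ (X i)) (φ.map_mem (X_mem_one i)) one_pos).isIso_hom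
    intro y hy
    obtain ⟨v, rfl⟩ := (ConcreteCategory.bijective_of_isIso (Proj.awayToSection (CohB1.polyGrading N R) (X i))).2 y
    obtain ⟨d, a, ha, rfl⟩ := Away.mk_surjective (CohB1.polyGrading N R) (X_mem_one i) v
    rw [RingHom.mem_ker] at hy ⊢
    have h1 : Proj.awayToSection ℬ (φ (X i))
        (Away.map φ (X i) (Away.mk (CohB1.polyGrading N R) (X_mem_one i) d a ha)) = 0 := by
      refine Eq.trans ?_ hy
      have := DFunLike.congr_fun (congrArg CommRingCat.Hom.hom (Proj.awayToSection_comp_appLE φ hφ (X_mem_one i)))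
        (Away.mk (CohB1.polyGrading N R) (X_mem_one i) d a ha)
      rw [← Scheme.Hom.appLE_eq_app]
      exact this.symm
    have h2 := (injective_iff_map_eq_zero' (Proj.awayToSection ℬ (φ (X i))).hom).1
      (ConcreteCategory.bijective_of_isIso (Proj.awayToSection ℬ (φ (X i)))).1 _ |>.1 h1
    rw [hzero] at h2
    obtain ⟨M, hM⟩ := h2
    have hM' : X i ^ M * a ∈ Chart.ideal z := Ideal.span_le.2 (fun f hf => hz f hf) hM
    have hm : X i ^ M * a ∈ CohB1.polyGrading N R (M + d) := by
      have := SetLike.mul_mem_graded (SetLike.pow_mem_graded M (X_mem_one (R := R) i)) ha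
      simpa using this
    have hm' : X i ^ M * a ∈ CohB1.polyGrading N R ((M + d) • 1) := by simpa using hm
    have h3 := Closed.van_of_mem (𝒜 := CohB1.polyGrading N R) z hM' hm (X i) (mem_coords i) hm'
    have e' : Away.mk (CohB1.polyGrading N R) (X_mem_one i) (M + d) (X i ^ M * a) hm' =
        Away.mk (CohB1.polyGrading N R) (X_mem_one i) d a ha := by
      apply HomogeneousLocalization.val_injective
      rw [Away.val_mk, Away.val_mk, Localization.mk_eq_mk_iff, Localization.r_iff_exists]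
      exact ⟨1, by simp [pow_add]; ring⟩
    rw [e'] at h3
    exact h3

/-- Flatness over a local ring from the special fibres of the charts. -/
theorem flat_of_fibre [IsLocalRing R] [IsNoetherianRing R] {W : Scheme.{u}}
    (F : W ⟶ Spec (CommRingCat.of R)) [UniversallyClosed F] {ι : Type}
    (B : ι → Type u) [∀ i, CommRing (B i)] [∀ i, Algebra R (B i)]
    (c : ∀ i, Spec (CommRingCat.of (B i)) ⟶ W) [∀ i, IsOpenImmersion (c i)]
    (hc : ∀ i, c i ≫ F = Spec.map (CommRingCat.ofHom (algebraMap R (B i))))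
    (hcov : ∀ w : W, ∃ i, w ∈ Set.range (c i))
    (hB : ∀ i (P : Ideal (B i)) [P.IsPrime], P.comap (algebraMap R (B i)) = IsLocalRing.maximalIdeal R →
      Module.Flat R (Localization.AtPrime P)) : Flat F := by
  refine Flat.of_stalkMap F fun w => ?_
  obtain ⟨z, hwz, hz⟩ : ∃ z, w ⤳ z ∧ F z = IsLocalRing.closedPoint R := by
    have hmem : (IsLocalRing.closedPoint R : Spec (CommRingCat.of R)) ∈ F '' closure {w} :=
      (IsLocalRing.specializes_closedPoint (F w)).mem_closed (F.isClosedMap _ isClosed_closure)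
        ⟨w, subset_closure rfl, rfl⟩
    obtain ⟨z, hz, hFz⟩ := hmem
    exact ⟨z, specializes_iff_mem_closure.2 hz, hFz⟩
  obtain ⟨i, Pz, rfl⟩ := hcov z
  obtain ⟨Pw, rfl⟩ : w ∈ Set.range (c i) := hwz.mem_open (c i).isOpenEmbedding.isOpen_range ⟨Pz, rfl⟩
  have hle : Pw.asIdeal ≤ Pz.asIdeal :=
    (PrimeSpectrum.le_iff_specializes Pw Pz).2 ((c i).isOpenEmbedding.isInducing.specializes_iff.1 hwz)
  have hPz : Pz.asIdeal.comap (algebraMap R (B i)) = IsLocalRing.maximalIdeal R := by
    rw [← Scheme.Hom.comp_apply, hc i] at hz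
    exact congrArg PrimeSpectrum.asIdeal hz
  haveI := hB i Pz.asIdeal hPz
  have h1 := Alg.flat_localRingHom_of_le (A := R) hle
  have h2 : ((c i ≫ F).stalkMap Pw).hom.Flat := by
    have : ∀ (G : Spec (CommRingCat.of (B i)) ⟶ Spec (CommRingCat.of R)),
        G = Spec.map (CommRingCat.ofHom (algebraMap R (B i))) → (G.stalkMap Pw).hom.Flat := by
      rintro G rfl
      haveI : (RingHom.toMorphismProperty @RingHom.Flat).RespectsIso :=
        RingHom.toMorphismProperty_respectsIso_iff.mp RingHom.Flat.respectsIso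
      exact (MorphismProperty.arrow_mk_iso_iff (RingHom.toMorphismProperty @RingHom.Flat)
        (Scheme.arrowStalkMapSpecIso (CommRingCat.ofHom (algebraMap R (B i))) Pw)).2 h1
    exact this _ (hc i)
  rw [Scheme.Hom.stalkMap_comp] at h2
  exact (RingHom.Flat.respectsIso.cancel_right_isIso (F.stalkMap (c i Pw)) ((c i).stalkMap Pw)).1 h2

end Groth.Agent.Lib.FlatCI.Sub
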